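import Mathlib
import Cfsg.Agent.Holt.Grp
import Cfsg.Agent.GT.ThompsonComm
import Cfsg.Agent.Spor.ESSym

/-! An element `x` of order `p` and an involution `z` whose common centralizer is `p × SL₂(3)`. -/

set_option autoImplicit false
set_option linter.unusedSectionVars false

namespace Cfsg.Agent.RV

open Subgroup Cfsg.Agent.Spor Cfsg.Agent.Loc.Am
open scoped commutatorElement Pointwise

variable {G : Type*} [Group G]

theorem q8_sw {a b : G} (h : b * a = a⁻¹ * b) {u : G} (hu : u ∈ zpowers a) : b * u = u⁻¹ * b := by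
  obtain ⟨k, rfl⟩ := hu
  have : b * a * b⁻¹ = a⁻¹ := by rw [h]; group
  have e : b * a ^ k * b⁻¹ = (a ^ k)⁻¹ := by rw [← conj_zpow, this, inv_zpow]
  rw [← e]; group

/-- The quaternion group on two generators. -/
def Q8 {a b : G} (h : b * a = a⁻¹ * b) (h2 : b * b = a * a) : Subgroup G where
  carrier := {q | ∃ u ∈ zpowers a, q = u ∨ q = u * b}
  one_mem' := ⟨1, one_mem _, Or.inl rfl⟩
  mul_mem' := by
    have ha := mem_zpowers a
    rintro _ _ ⟨u, hu, rfl | rfl⟩ ⟨w, hw, rfl | rfl⟩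
    · exact ⟨_, mul_mem hu hw, Or.inl rfl⟩
    · exact ⟨_, mul_mem hu hw, Or.inr (mul_assoc _ _ _).symm⟩
    · exact ⟨_, mul_mem hu (inv_mem hw), Or.inr (by rw [mul_assoc, q8_sw h hw, mul_assoc])⟩
    · exact ⟨_, mul_mem (mul_mem hu (inv_mem hw)) (mul_mem ha ha), Or.inl (by
        rw [← h2, mul_assoc u, ← mul_assoc b, q8_sw h hw]; group)⟩
  inv_mem' := by
    have ha := mem_zpowers a
    rintro _ ⟨u, hu, rfl | rfl⟩
    · exact ⟨_, inv_mem hu, Or.inl rfl⟩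
    · refine ⟨_, mul_mem hu (inv_mem (mul_mem ha ha)), Or.inr (inv_eq_of_mul_eq_one_right ?_)⟩
      rw [← h2, mul_assoc u, ← mul_assoc b, ← mul_assoc b, q8_sw h hu]; group

/-- The local configuration. -/
structure Lc (p : ℕ) (z x a b r : G) : Prop where
  pr : p.Prime
  h2 : p ≠ 2
  h3 : p ≠ 3
  hz : orderOf z = 2
  hx : orderOf x = p
  zx : Commute z x
  za : Commute z a
  zr : Commute z r
  xa : Commute x a
  xr : Commute x r
  hD : Nat.card (centralizer ({x, z} : Set G)) < 48 * p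
  a2 : a * a = z
  r3 : r ^ 3 = 1
  ra : r * a * r⁻¹ = b
  rb : Eqv z (r * b * r⁻¹) (a * b)

/-- The odd core of the centralizer. -/
noncomputable abbrev OC (x : G) : Subgroup G := Holt.OO (centralizer ({x} : Set G))

namespace Lc

variable [Finite G] {p : ℕ} {z x a b r q d y : G} (h : Lc p z x a b r)
include h

theorem zz : z * z = 1 := Holt.sq_of_order_two h.hz
theorem z1 : z ≠ 1 := Holt.ne_one_of_order_two h.hz
theorem xp : x ^ p = 1 := h.hx ▸ pow_orderOf_eq_one x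
theorem odd : Odd p := h.pr.odd_of_ne_two h.h2
theorem zb : Commute z b := h.ra ▸ (h.zr.mul_right h.za).mul_right h.zr.inv_right
theorem xb : Commute x b := h.ra ▸ (h.xr.mul_right h.xa).mul_right h.xr.inv_right

theorem cz {g : G} (hg : Commute z g) : g * z * g⁻¹ = z := by rw [← hg.eq]; group

theorem b2 : b * b = z := by
  rw [← h.cz h.zr, ← h.a2, ← h.ra]; group

theorem ba : b * a = a⁻¹ * b := by
  have e : r * b * r⁻¹ * (r * b * r⁻¹) = z := by rw [← h.cz h.zr, ← h.b2]; group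
  have e2 : a * b * (a * b) = z := by
    rcases h.rb with k | k <;> rw [k] at e
    · exact e
    · rwa [(h.za.mul_right h.zb).symm.mul_mul_mul_comm, h.zz, one_mul] at e
  calc b * a = a⁻¹ * (a * b * (a * b)) * b⁻¹ := by group
    _ = _ := by rw [e2, ← h.b2]; group

/-- The quaternion group. -/
def Q : Subgroup G := Q8 h.ba (h.b2.trans h.a2.symm)

theorem a_mem : a ∈ h.Q := ⟨a, mem_zpowers a, Or.inl rfl⟩
theorem b_mem : b ∈ h.Q := ⟨1, one_mem _, Or.inr (one_mul b).symm⟩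
theorem z_mem : z ∈ h.Q := by have := mul_mem h.a_mem h.a_mem; rwa [h.a2] at this

theorem ainv : a⁻¹ = z * a := by
  rw [inv_eq_iff_mul_eq_one, ← mul_assoc, ← h.za.eq, mul_assoc, h.a2, h.zz]

theorem not_ab : ¬ Commute a b := fun e => h.z1 (by
  have := h.ba
  rw [← e.eq, h.ainv, mul_left_inj] at this
  simpa using this.symm)

theorem ab : a * b * a⁻¹ = z * b := by
  have := h.ba
  rw [h.ainv, mul_assoc] at this
  rw [mul_inv_eq_iff_eq_mul, mul_assoc, this, ← mul_assoc, h.zz, one_mul]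

theorem mem_a {u : G} (hu : u ∈ zpowers a) : u = 1 ∨ u = z ∨ u * u = z := by
  have a4 : a ^ 4 = 1 := by rw [← h.zz, ← h.a2]; simp [pow_succ, mul_assoc]
  obtain ⟨n, rfl⟩ := mem_powers_iff_mem_zpowers.2 hu
  have : n % 4 < 4 := Nat.mod_lt _ (by decide)
  simp only [pow_eq_pow_mod n a4]
  interval_cases n % 4
  · simp
  · simp [h.a2]
  · simp [pow_two, h.a2]
  · right; right
    rw [← pow_add, show 3 + 3 = 4 + 2 from rfl, pow_add, a4, one_mul, pow_two, h.a2]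

theorem sq_ub {u : G} (hu : u ∈ zpowers a) : u * b * (u * b) = z := by
  rw [mul_assoc u, ← mul_assoc b, q8_sw h.ba hu, ← h.b2]; group

theorem cases (hq : q ∈ h.Q) : q = 1 ∨ q = z ∨ q * q = z := by
  obtain ⟨u, hu, rfl | rfl⟩ := hq
  · exact h.mem_a hu
  · exact Or.inr (Or.inr (h.sq_ub hu))

theorem q4 (hq : q ∈ h.Q) : q ^ 4 = 1 := by
  rw [show 4 = 2 * 2 from rfl, pow_mul, pow_two q]
  rcases h.cases hq with e | e | e <;> simp [e, h.zz, pow_two]

theorem Q_comm {g : G} (ga : Commute g a) (gb : Commute g b) (hq : q ∈ h.Q) : Commute g q := by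
  obtain ⟨_, ⟨k, rfl⟩, rfl | rfl⟩ := hq
  · exact ga.zpow_right k
  · exact (ga.zpow_right k).mul_right gb

theorem anti (hq : q ∈ h.Q) (h2 : q * q = z) : ∃ y, (y = a ∨ y = b) ∧ y * q * y⁻¹ = q * z := by
  obtain ⟨u, hu, rfl | rfl⟩ := hq
  · refine ⟨b, Or.inr rfl, ?_⟩
    rw [q8_sw h.ba hu, mul_inv_cancel_right, inv_eq_iff_mul_eq_one, ← mul_assoc, h2, h.zz]
  · obtain ⟨k, rfl⟩ := hu
    refine ⟨a, Or.inl rfl, ?_⟩
    rw [mul_assoc _ b, ← h.zb.eq, ← h.ab]; group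

theorem conj_a (hq : q ∈ h.Q) : Commute a (q⁻¹ * a * q) := by
  obtain ⟨u, ⟨k, rfl⟩, e | e⟩ := inv_mem hq <;> rw [← inv_inv q, inv_inv q⁻¹, e]
  · simp only [show a ^ k * a * (a ^ k)⁻¹ = a by group, Commute.refl]
  · have : a ^ k * b * a * (a ^ k * b)⁻¹ = a⁻¹ := by rw [mul_assoc _ b, h.ba]; group
    rw [this]; simp

theorem r_norm : r ∈ normalizer (h.Q : Set G) := by
  refine mem_normalizer_fintype ?_
  have h1 : ∀ k : ℤ, r * a ^ k * r⁻¹ ∈ h.Q := fun k => by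
    rw [← conj_zpow, h.ra]; exact zpow_mem h.b_mem k
  have h2 : r * b * r⁻¹ ∈ h.Q := by
    rcases h.rb with e | e <;> rw [e]
    · exact mul_mem h.a_mem h.b_mem
    · exact mul_mem h.z_mem (mul_mem h.a_mem h.b_mem)
  rintro _ ⟨_, ⟨k, rfl⟩, rfl | rfl⟩
  · exact h1 k
  · simpa [mul_assoc] using mul_mem (h1 k) h2

theorem eight : 8 ∣ Nat.card h.Q := by
  have : Fact (Nat.Prime 2) := ⟨Nat.prime_two⟩
  have hP : IsPGroup 2 h.Q := fun q => ⟨2, Subtype.ext (h.q4 q.2)⟩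
  obtain ⟨n, hn⟩ := hP.exists_card_eq
  have o4 : orderOf a = 2 ^ (1 + 1) := orderOf_eq_prime_pow (by simpa [pow_two, h.a2] using h.z1)
    (h.q4 h.a_mem)
  have lt : zpowers a < h.Q := lt_of_le_of_ne (zpowers_le.2 h.a_mem) fun e => h.not_ab (by
    obtain ⟨k, hk⟩ := e ▸ h.b_mem
    rw [← hk]; exact (Commute.refl a).zpow_right k)
  have : Nat.card (zpowers a) < Nat.card h.Q := lt_of_not_ge fun e => lt.ne (eq_of_le_of_card_ge lt.le e)
  rw [Nat.card_zpowers, o4, hn, Nat.pow_lt_pow_iff_right (by decide)] at this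
  rw [hn]
  exact pow_dvd_pow 2 (show 3 ≤ n by omega)

theorem r1 : r ≠ 1 := fun e => h.not_ab (by rw [← h.ra, e]; simp)

theorem dec_D (dx : Commute x d) (dz : Commute z d) : ∃ q ∈ h.Q, ∃ n : ℕ, d = q * r ^ n * x ^ n := by
  have : Fact (Nat.Prime 3) := ⟨Nat.prime_three⟩
  have o3 : orderOf r = 3 := orderOf_eq_prime h.r3 h.r1
  have c3 : Nat.Coprime 3 p := (Nat.coprime_primes Nat.prime_three h.pr).2 h.h3.symm
  have o : orderOf (r * x) = 3 * p := by
    rw [h.xr.symm.orderOf_mul_eq_mul_orderOf_of_coprime (by rwa [o3, h.hx]), o3, h.hx]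
  have m : ∀ {g}, g ∈ centralizer ({x, z} : Set G) ↔ Commute x g ∧ Commute z g := by
    simp [mem_centralizer_iff, commute_iff_eq]
  have le : h.Q ⊔ zpowers (r * x) ≤ centralizer ({x, z} : Set G) := sup_le
    (fun q hq => m.2 ⟨h.Q_comm h.xa h.xb hq, h.Q_comm h.za h.zb hq⟩)
    (zpowers_le.2 (m.2 ⟨h.xr.mul_right (Commute.refl x), h.zr.mul_right h.zx⟩))
  have d1 : 8 * (3 * p) ∣ Nat.card ↥(h.Q ⊔ zpowers (r * x)) := Nat.Coprime.mul_dvd_of_dvd_of_dvd
    (Nat.Coprime.mul_right (by decide) (Nat.Coprime.pow_left 3 (Nat.coprime_two_left.2 h.odd)))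
    (h.eight.trans (card_dvd_of_le le_sup_left))
    (by rw [← o, ← Nat.card_zpowers]; exact card_dvd_of_le le_sup_right)
  have e : h.Q ⊔ zpowers (r * x) = centralizer ({x, z} : Set G) := by
    refine eq_of_le_of_card_ge le ?_
    obtain ⟨k, hk⟩ := card_dvd_of_le le
    have h1 := h.hD
    have h2 := Nat.le_of_dvd Nat.card_pos d1
    have h3 : 0 < k := Nat.pos_of_ne_zero fun e => Nat.card_pos.ne' (by rw [hk, e, mul_zero])
    have : k = 1 := by
      by_contra hh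
      have : 2 ≤ k := by omega
      nlinarith
    rw [hk, this, mul_one]
  have hn : zpowers (r * x) ≤ normalizer (h.Q : Set G) := zpowers_le.2 (mul_mem h.r_norm
    (mem_normalizer_fintype fun q hq => by
      rwa [(h.Q_comm h.xa h.xb hq).eq, mul_inv_cancel_right]))
  have : d ∈ ((h.Q ⊔ zpowers (r * x) : Subgroup G) : Set G) := e ▸ m.2 ⟨dx, dz⟩
  rw [coe_mul_of_right_le_normalizer_left _ _ hn] at this
  obtain ⟨q, hq, t, ht, rfl⟩ := this
  obtain ⟨n, rfl⟩ := mem_powers_iff_mem_zpowers.2 ht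
  exact ⟨q, hq, n, by simp only [h.xr.symm.mul_pow, mul_assoc]⟩

theorem rn_conj (n : ℕ) (hq : q ∈ h.Q) : r ^ n * q * (r ^ n)⁻¹ ∈ h.Q :=
  (mem_normalizer_iff.1 (pow_mem h.r_norm n) q).1 hq

theorem rn3 (n : ℕ) : (r ^ n) ^ 3 = 1 := by rw [← pow_mul, mul_comm, pow_mul, h.r3, one_pow]

theorem cube (hq : q ∈ h.Q) (n : ℕ) : (q * r ^ n) ^ 3 ∈ h.Q := by
  have := mul_mem hq (h.rn_conj n (mul_mem hq (h.rn_conj n hq)))
  have e := h.rn3 n
  generalize r ^ n = t at this e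
  rwa [show (q * t) ^ 3 = q * (t * (q * (t * q * t⁻¹)) * t⁻¹) * t ^ 3 by
    simp only [pow_succ, pow_zero]; group, e, mul_one]

theorem of_sq (hq : q ∈ h.Q) {n : ℕ} (h2 : q * r ^ n * (q * r ^ n) ∈ h.Q) : r ^ n = 1 := by
  have := h.q4 (mul_mem (inv_mem (mul_mem hq (h.rn_conj n hq))) h2)
  have e := h.rn3 n
  generalize r ^ n = t at this e
  rw [show (q * (t * q * t⁻¹))⁻¹ * (q * t * (q * t)) = t ^ 2 by rw [pow_two]; group, ← pow_mul] at this
  calc t = t ^ (2 * 4) * t := by rw [this, one_mul]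
    _ = 1 := by rw [← pow_succ, show 2 * 4 + 1 = 3 * 3 from rfl, pow_mul, e, one_pow]

theorem x_qr (hq : q ∈ h.Q) (n m : ℕ) : Commute (q * r ^ n) (x ^ m) :=
  (((h.Q_comm h.xa h.xb hq).mul_right (h.xr.pow_right n)).pow_left m).symm

theorem pow12 (hq : q ∈ h.Q) (n : ℕ) : (q * r ^ n * x ^ n) ^ 12 = (x ^ n) ^ 12 := by
  rw [(h.x_qr hq n n).mul_pow, show 12 = 3 * 4 from rfl, pow_mul, h.q4 (h.cube hq n), one_mul]

theorem cop12 : Nat.Coprime p 12 :=
  Nat.Coprime.mul_right ((Nat.coprime_primes h.pr Nat.prime_three).2 h.h3)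
    (Nat.Coprime.pow_right 2 ((Nat.coprime_primes h.pr Nat.prime_two).2 h.h2))

theorem invol (dx : Commute x d) (dz : Commute z d) (h2 : d * d = 1) : d = 1 ∨ d = z := by
  obtain ⟨q, hq, n, rfl⟩ := h.dec_D dx dz
  have e := h.pow12 hq n
  rw [show 12 = 2 * 6 from rfl, pow_mul, pow_two, h2, one_pow] at e
  have : x ^ n = 1 := (pow_eq_one_iff_of_coprime h.cop12).1
    ⟨by rw [← pow_mul, mul_comm, pow_mul, h.xp, one_pow], e.symm⟩
  rw [this, mul_one] at h2 ⊢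
  have k := h.of_sq hq (n := n) (by rw [h2]; exact one_mem _)
  rw [k, mul_one] at h2 ⊢
  rcases h.cases hq with e | e | e
  · exact Or.inl e
  · exact Or.inr e
  · exact absurd (e.symm.trans h2) h.z1

omit h in
theorem mem_C : y ∈ centralizer ({x} : Set G) ↔ Commute x y := by
  simp [mem_centralizer_iff, commute_iff_eq]

omit h in
theorem O_comm {o : G} (ho : o ∈ OC x) : Commute x o := mem_C.1 (GT.pPrimeCoreOf_le _ ho)

omit h in
theorem O_conj {o : G} (hy : Commute x y) (ho : o ∈ OC x) : y * o * y⁻¹ ∈ OC x :=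
  (mem_normalizer_iff.1 (GT.le_normalizer_pPrimeCoreOf _ (mem_C.2 hy)) o).1 ho

theorem x_le : zpowers x ≤ OC x := by
  refine Holt.le_OO_of_odd (zpowers_le.2 (mem_C.2 (Commute.refl x))) (fun y hy => ?_) fun o ho => ?_
  · refine mem_normalizer_fintype ?_
    rintro _ ⟨k, rfl⟩
    rw [← ((mem_C.1 hy).zpow_left k).eq, mul_inv_cancel_right]
    exact ⟨k, rfl⟩
  · exact h.odd.of_dvd_nat (h.hx ▸ orderOf_dvd_of_mem_zpowers ho)

theorem QO (hq : q ∈ h.Q) (ho : q ∈ OC x) : q = 1 :=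
  (pow_eq_one_iff_of_coprime (Nat.Coprime.pow_left 2 (Nat.coprime_two_left.2
    (Holt.odd_order_OO ho)))).1 ⟨h.q4 hq, pow_orderOf_eq_one q⟩

theorem fix_O {o : G} (ho : o ∈ OC x) (hz : Commute z o) : o ∈ zpowers x := by
  obtain ⟨q, hq, n, rfl⟩ := h.dec_D (O_comm ho) hz
  have hx := pow_mem (mem_zpowers x) n
  have hw : q * r ^ n ∈ OC x := by simpa using mul_mem ho (inv_mem (h.x_le hx))
  have e := h.QO (q := q * r ^ n * (a * (q * r ^ n)⁻¹ * a⁻¹)) (by
    simpa [mul_assoc] using mul_mem (mul_mem (mul_mem hq (h.rn_conj n h.a_mem)) (inv_mem hq))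
      (inv_mem h.a_mem)) (mul_mem hw (O_conj h.xa (inv_mem hw)))
  have c := h.conj_a hq
  rw [show q⁻¹ * a * q = r ^ n * a * (r ^ n)⁻¹ by
    conv_lhs => rw [← one_mul a, ← e]
    group, pow_eq_pow_mod n h.r3] at c
  rw [pow_eq_pow_mod n h.r3] at hw ⊢
  have : n % 3 < 3 := Nat.mod_lt _ (by decide)
  interval_cases n % 3
  · simp only [pow_zero, mul_one] at hw ⊢
    rwa [h.QO hq hw, one_mul]
  · exact absurd (by simpa [h.ra] using c) h.not_ab
  · rw [show r ^ 2 * a * (r ^ 2)⁻¹ = r * b * r⁻¹ by rw [← h.ra, pow_two]; group] at c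
    refine absurd ?_ h.not_ab
    rcases h.rb with k | k <;> rw [k] at c
    · simpa using (Commute.refl a).inv_right.mul_right c
    · simpa using (Commute.refl a).inv_right.mul_right (h.za.symm.inv_right.mul_right c)

theorem dec_O {o : G} (ho : o ∈ OC x) :
    ∃ c ∈ zpowers x, ∃ w ∈ OC x, z * w * z⁻¹ = w⁻¹ ∧ o = c * w := by
  have hu := mul_mem (inv_mem ho) (O_conj h.zx.symm ho)
  obtain ⟨k, hk⟩ := Holt.odd_order_OO hu
  have e : z * (o⁻¹ * (z * o * z⁻¹)) * z⁻¹ = (o⁻¹ * (z * o * z⁻¹))⁻¹ := by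
    calc _ = z * o⁻¹ * z⁻¹ * ((z * z) * o * (z * z)⁻¹) := by group
      _ = _ := by rw [h.zz]; group
  have e1 : z * o * z⁻¹ = o * (o⁻¹ * (z * o * z⁻¹)) := by group
  generalize o⁻¹ * (z * o * z⁻¹) = u at *
  have e2 : z * u ^ (k + 1) * z⁻¹ = (u ^ (k + 1))⁻¹ := by rw [← conj_pow, e, inv_pow]
  have e3 : u ^ (k + 1) * u ^ (k + 1) = u := by
    rw [← pow_add, show k + 1 + (k + 1) = 2 * k + 1 + 1 by ring, ← hk, pow_succ, pow_orderOf_eq_one,
      one_mul]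
  have hw := pow_mem hu (k + 1)
  generalize u ^ (k + 1) = w at *
  refine ⟨o * w, h.fix_O (mul_mem ho hw) ?_, w⁻¹, inv_mem hw,
    by rw [← conj_inv, e2], by group⟩
  calc z * (o * w) = z * o * z⁻¹ * (z * w * z⁻¹) * z := by group
    _ = _ := by rw [e1, e2, ← e3]; group

omit h in
theorem c_comm {c : G} (hc : c ∈ zpowers x) (hy : Commute x y) : Commute c y := by
  obtain ⟨k, rfl⟩ := hc; exact hy.zpow_left k

theorem comm_O {o o' : G} (ho : o ∈ OC x) (ho' : o' ∈ OC x) : ⁅o, o'⁆ ∈ zpowers x := by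
  have k : ∀ o ∈ OC x, ∃ c ∈ zpowers x, z * o⁻¹ * z⁻¹ = c * o := fun o ho => by
    obtain ⟨c, hc, w, hw, e, rfl⟩ := h.dec_O ho
    refine ⟨(c * c)⁻¹, inv_mem (mul_mem hc hc), ?_⟩
    calc z * (c * w)⁻¹ * z⁻¹ = (z * w * z⁻¹)⁻¹ * (z * c⁻¹ * z⁻¹) := by group
      _ = _ := by
        rw [e, ← (c_comm (inv_mem hc) h.zx.symm).eq, inv_inv, mul_inv_cancel_right,
          ← (c_comm (inv_mem hc) (O_comm hw)).eq]; group
  obtain ⟨c, hc, e⟩ := k o ho
  obtain ⟨c', hc', e'⟩ := k o' ho'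
  obtain ⟨c'', hc'', e''⟩ := k _ (mul_mem ho' ho)
  have : c * o * (c' * o') = c'' * (o' * o) := by rw [← e, ← e', ← e'']; group
  rw [(c_comm hc' (O_comm ho)).symm.mul_mul_mul_comm] at this
  rw [show ⁅o, o'⁆ = (c * c')⁻¹ * c'' by
    rw [commutatorElement_def, eq_inv_mul_iff_mul_eq, ← mul_inv_eq_iff_eq_mul.2 this]; group]
  exact mul_mem (inv_mem (mul_mem hc hc')) hc''

theorem mem_O (hy : Commute x y) {k : ℕ} (hk : y ^ p ^ k = 1) : y ∈ OC x := by
  have := Holt.zstar h.hz (mem_C.2 h.zx.symm) (fun y hy c => by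
    rcases h.invol (((mem_C.1 hy).mul_right h.zx.symm).mul_right (mem_C.1 hy).inv_right) c
      (Holt.conj_sq_one h.zz y) with e | e
    · exact absurd (by simpa using e) h.z1
    · exact e) y (mem_C.2 hy)
  rw [commutatorElement_def, Holt.inv_eq_of_sq h.zz] at this
  obtain ⟨o, ho, c⟩ := Holt.adj_left (fun _ => Holt.odd_order_OO) h.zz this
  have hd := (O_comm ho).mul_right hy
  obtain ⟨q, hq, n, e⟩ := h.dec_D hd c.symm
  have h12 : (o * y) ^ 12 ∈ OC x := by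
    rw [e, h.pow12 hq]; exact h.x_le (pow_mem (pow_mem (mem_zpowers x) n) 12)
  have hn : ∀ n : ℕ, (o * y) ^ n * (y ^ n)⁻¹ ∈ OC x := fun n => by
    induction n with
    | zero => simp
    | succ n ih => simpa [pow_succ', mul_assoc] using mul_mem ho (O_conj hy ih)
  have : y ^ 12 ∈ OC x := by simpa using mul_mem (inv_mem (hn 12)) h12
  exact zpowers_le.2 this (mem_zpowers_pow_iff.2
    ((h.cop12.symm.pow_right k).coprime_dvd_right (orderOf_dvd_of_pow_eq_one hk)))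

theorem c_pow {c : G} (hc : c ∈ zpowers x) : c ^ p = 1 := by
  obtain ⟨k, rfl⟩ := hc
  rw [← zpow_natCast, ← zpow_mul, mul_comm, zpow_mul, zpow_natCast, h.xp, one_zpow]

theorem comm_mem {u w : G} (hu : Commute x u ∧ u ^ p = 1) (hw : Commute x w ∧ w ^ p = 1) :
    ⁅u, w⁆ ∈ zpowers x :=
  h.comm_O (h.mem_O hu.1 (k := 1) (by simpa using hu.2)) (h.mem_O hw.1 (k := 1) (by simpa using hw.2))

/-- The elements of order dividing `p` in the centralizer of `x`. -/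
def Om : Subgroup G where
  carrier := {y | Commute x y ∧ y ^ p = 1}
  one_mem' := ⟨Commute.one_right x, one_pow p⟩
  mul_mem' {u w} hu hw := ⟨hu.1.mul_right hw.1, GT.th_mul_pow_eq_one h.odd
    (c_comm (h.comm_mem hw hu) hu.1) (c_comm (h.comm_mem hw hu) hw.1) hu.2 hw.2⟩
  inv_mem' hu := ⟨hu.1.inv_right, by rw [inv_pow, hu.2, inv_one]⟩

theorem x_le_Om : zpowers x ≤ h.Om := fun _ hc => ⟨(c_comm hc (Commute.refl x)).symm, h.c_pow hc⟩

theorem dec_Om (hy : y ∈ h.Om) : ∃ c ∈ zpowers x, ∃ w ∈ h.Om, z * w * z⁻¹ = w⁻¹ ∧ y = c * w := by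
  obtain ⟨c, hc, w, -, e, rfl⟩ := h.dec_O (h.mem_O hy.1 (k := 1) (by simpa using hy.2))
  exact ⟨c, hc, w, by simpa using mul_mem (inv_mem (h.x_le_Om hc)) hy, e, rfl⟩

theorem uniq {c w : G} (hc : c ∈ zpowers x) (hw : Commute x w) (e : z * w * z⁻¹ = w⁻¹)
    (e' : z * (c * w) * z⁻¹ = (c * w)⁻¹) : c = 1 := by
  refine (pow_eq_one_iff_of_coprime (Nat.coprime_two_left.2 h.odd)).1 ⟨?_, h.c_pow hc⟩
  rw [← mul_assoc, ← (c_comm hc h.zx.symm).eq, mul_assoc, mul_assoc, ← mul_assoc z, e,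
    (c_comm hc hw).eq, mul_inv_rev, mul_left_inj] at e'
  rw [pow_two, mul_eq_one_iff_eq_inv]; exact e'

theorem exists_inv (h2 : p ^ 2 ∣ Nat.card G) : ∃ u ∈ h.Om, u ≠ 1 ∧ z * u * z⁻¹ = u⁻¹ := by
  have : Fact p.Prime := ⟨h.pr⟩
  obtain ⟨P, hP⟩ := (IsPGroup.of_card (n := 1) (by rw [Nat.card_zpowers, h.hx, pow_one]) :
    IsPGroup p (zpowers x)).exists_le_sylow
  have hxP := hP (mem_zpowers x)
  obtain ⟨y, hyP, hy, hyx⟩ : ∃ y ∈ P.1, Commute x y ∧ y ∉ zpowers x := by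
    have : Nontrivial P.1 := ⟨⟨⟨x, hxP⟩, 1, fun e => h.pr.ne_one (by
      rw [← h.hx, orderOf_eq_one_iff]; exact congrArg Subtype.val e)⟩⟩
    obtain ⟨⟨c, hc⟩, c1⟩ := ne_bot_iff_exists_ne_one.1 (nontrivial_iff_ne_bot _ |>.1 P.2.center_nontrivial)
    have k : ∀ y ∈ P.1, Commute y c := fun y hy =>
      congrArg Subtype.val (mem_center_iff.1 hc ⟨y, hy⟩)
    by_cases hx : (c : G) ∈ zpowers x
    · have e : zpowers (c : G) = zpowers x := eq_of_le_of_card_ge (zpowers_le.2 hx) (by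
        rw [Nat.card_zpowers, Nat.card_zpowers, h.hx,
          orderOf_eq_prime (h.c_pow hx) fun e => c1 (Subtype.ext (Subtype.ext e))])
      obtain ⟨y, hy, hy'⟩ := SetLike.exists_of_lt (lt_of_le_of_ne hP fun e => by
        have := P.pow_dvd_card_of_pow_dvd_card h2
        rw [← e, Nat.card_zpowers, h.hx] at this
        exact absurd (Nat.le_of_dvd h.pr.pos this) (by have := h.pr.two_le; nlinarith))
      exact ⟨y, hy, c_comm (e ▸ mem_zpowers x) (k y hy).symm, hy'⟩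
    · exact ⟨c, c.2, k x hxP, hx⟩
  obtain ⟨k, hk⟩ := P.2 ⟨y, hyP⟩
  replace hk : y ^ p ^ k = 1 := congrArg Subtype.val hk
  obtain ⟨c, hc, w, hw, e, rfl⟩ := h.dec_O (h.mem_O hy hk)
  have w1 : w ≠ 1 := fun e => hyx (by simpa [e] using hc)
  have wk : w ^ p ^ (k + 1) = 1 := by
    have : (c * w) ^ p = w ^ p := by rw [(c_comm hc (O_comm hw)).mul_pow, h.c_pow hc, one_mul]
    rw [pow_succ', pow_mul, ← this, ← pow_mul, mul_comm p, pow_mul, hk, one_pow]
  have hd : p ∣ orderOf w := by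
    obtain ⟨m, -, hm⟩ := (Nat.dvd_prime_pow h.pr).1 (orderOf_dvd_of_pow_eq_one wk)
    exact hm ▸ dvd_pow_self p fun e => w1 (by simpa [e] using hm)
  have ho := orderOf_pow_orderOf_div (orderOf_pos w).ne' hd
  refine ⟨w ^ (orderOf w / p), ⟨(O_comm hw).pow_right _, orderOf_dvd_iff_pow_eq_one.1 ho.dvd⟩, fun e => ?_,
    by rw [← conj_pow, e, inv_pow]⟩
  rw [e, orderOf_one] at ho
  exact h.pr.ne_one ho.symm

end Lc

end Cfsg.Agent.RV
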